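import Cfsg.Agent.MaxSub.OrthStabGL
import Cfsg.Agent.MaxSub.OrthVectorGL
import Cfsg.Agent.MaxSub.SubfieldQuadGL
import Cfsg.Agent.Omega8Minus50.Stab
import Cfsg.Agent.Omega8Minus50.Subspaces
import Cfsg.Agent.OrthDec99.Main
import Cfsg.Agent.ODec35.Main
import Cfsg.Agent.ExtFieldMax.Orth.Main

/-!
The geometric classes of maximal subgroups of `Ω₁₀^±(q)` (helper58).
-/

set_option autoImplicit false
set_option linter.unusedSectionVars false
open Cfsg

namespace Cfsg.Agent.Omega10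

open QuadraticMap Cfsg.Agent.UnitaryOrthogonal
open scoped Matrix

variable {F : Type*} [Field F] [Fintype F] {Q : QuadraticForm F (Fin 10 → F)}

/-- A totally singular subspace, apart from a four-space when there are five-spaces. -/
theorem singular_maximal (hnd : PolarND Q) {W : Submodule F (Fin 10 → F)} (hW0 : W ≠ ⊥)
    (hW : Geo.IsTotallySingularQuad ⇑Q W)
    (hd : Module.finrank F W ≠ 4 ∨
      ∀ U : Submodule F (Fin 10 → F), (∀ x ∈ U, Q x = 0) → Module.finrank F U ≠ 5) :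
    Geo.IsMaximalIn (Geo.omegaGL ⇑Q) (Geo.subspaceStabilizer W ⊓ Geo.omegaGL ⇑Q) := by
  have hfin : Module.finrank F (Fin 10 → F) = 10 := by simp
  refine OrthStab.singular_isMaximalIn hnd (by omega) hW hW0 fun u hu huW hperp => ?_
  have hs := OrthStab.singular_sup hW hu hperp
  have h1 := OrthStab.two_mul_finrank_le hnd hs
  have h2 := fun h : ∀ U : Submodule F (Fin 10 → F), (∀ x ∈ U, Q x = 0) →
    Module.finrank F U ≠ 5 => h _ hs
  rw [OrthStab.finrank_sup_singleton huW] at h1 h2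
  rcases hd with hd | hd
  · omega
  · have := h2 hd; omega

theorem vector_maximal (hnd : PolarND Q) {v : Fin 10 → F} (hv : Q v ≠ 0) :
    Geo.IsMaximalIn (Geo.omegaGL ⇑Q)
      (Geo.subspaceStabilizer (Submodule.span F {v}) ⊓ Geo.omegaGL ⇑Q) :=
  OrthStab.vector_isMaximalIn hnd (by simp) hv

/-- A non-degenerate subspace of dimension other than five, with no hyperbolic plane over a field
of at most three elements on either side. -/
theorem subspace_maximal (hnd : PolarND Q) {W : Submodule F (Fin 10 → F)} (hW0 : W ≠ ⊥)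
    (hW1 : W ≠ ⊤) (hd : Module.finrank F W ≠ 5) (hW : Geo.IsNondegenerateOn (polar ⇑Q) W)
    (hex : Fintype.card F ≤ 3 →
      (Module.finrank F W = 2 → ¬ Geo.IsPlusTypeOn ⇑Q W) ∧ Module.finrank F W ≠ 8) :
    Geo.IsMaximalIn (Geo.omegaGL ⇑Q) (Geo.subspaceStabilizer W ⊓ Geo.omegaGL ⇑Q) := by
  have h1 : Module.finrank F W ≤ 10 := by simpa using Submodule.finrank_le W
  refine OrthStab.subspace_isMaximalIn_of_side hnd hW hW0 hW1 (by simp; omega)
    (fun W' hp he _ => hd ?_) fun hc U hU2 _ hpl hor => ?_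
  · have := Submodule.finrank_add_eq_of_isCompl hp.compl
    rw [Module.finrank_fintype_fun_eq_card, Fintype.card_fin] at this
    omega
  · obtain ⟨hx1, hx2⟩ := hex (by rwa [Nat.card_eq_fintype_card] at hc)
    rcases hor with rfl | ⟨-, h⟩
    · exact hx1 hU2 hpl
    · simp at h; omega

/-- The frame of ten lines. -/
theorem lines_maximal (hnd : PolarND Q) {p : ℕ} (hp : p.Prime) (hcard : Fintype.card F = p)
    (hodd : Odd p) {D : Fin 10 → Submodule F (Fin 10 → F)}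
    (hD : Geo.IsOrthogonalMDecomposition ⇑Q 1 D) :
    Geo.IsMaximalIn (Geo.omegaGL ⇑Q) (Geo.decompositionStabilizer D ⊓ Geo.omegaGL ⇑Q) :=
  ODec35.lines_isMaximalIn (ODec24.primeOdd_of_card (F := F) (hcard ▸ hp) (hcard ▸ hodd)) hnd
    (Or.inr (by simp)) hD

/-- Five isometric planes. -/
theorem planes_maximal (hnd : PolarND Q) {D : Fin 5 → Submodule F (Fin 10 → F)}
    (hD : Geo.IsOrthogonalMDecomposition ⇑Q 2 D) (h3 : Fintype.card F ≠ 3)
    (hplus : (∀ i, Geo.IsPlusTypeOn ⇑Q (D i)) → 7 ≤ Fintype.card F) :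
    Geo.IsMaximalIn (Geo.omegaGL ⇑Q) (Geo.decompositionStabilizer D ⊓ Geo.omegaGL ⇑Q) :=
  OrthDec99.isMaximalIn_ten hnd (by simp) le_rfl hD (fun _ => h3) (fun h => by omega)
    fun hp => ⟨fun _ => hplus hp, fun h => by omega⟩

/-- Five orthogonal planes of plus type span a space of plus type. -/
theorem plusType_of_planes {D : Fin 5 → Submodule F (Fin 10 → F)}
    (hD : Geo.IsOrthogonalMDecomposition ⇑Q 2 D) (h : ∀ i, Geo.IsPlusTypeOn ⇑Q (D i)) :
    Geo.IsPlusTypeOn ⇑Q ⊤ := by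
  classical
  obtain ⟨⟨hdec, -, horth⟩, -⟩ := hD
  choose U hUD hUQ hU2 using h
  have hU1 : ∀ i, Module.finrank F (U i) = 1 := fun i => by
    have := hU2 i
    rw [hdec.finrank_eq] at this
    omega
  have hpol : ∀ i j, ∀ x ∈ U i, ∀ y ∈ U j, polar Q x y = 0 := by
    intro i j x hx y hy
    by_cases e : i = j
    · subst e
      have := form_add (Q := Q) x y
      rw [hUQ i _ (add_mem hx hy), hUQ i x hx, hUQ i y hy, zero_add, zero_add] at this
      exact this.symm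
    · exact horth i j e x (hUD i hx) y (hUD j hy)
  have hS : ∀ x ∈ ⨆ i, U i, ∀ y ∈ ⨆ i, U i, polar Q x y = 0 := fun x hx y hy => by
    have h1 : ∀ i, ∀ z ∈ U i, (⨆ j, U j) ≤ LinearMap.ker (polarBilin Q z) := fun i z hz =>
      iSup_le fun j w hw => hpol i j z hz w hw
    have h2 : (⨆ i, U i) ≤ LinearMap.ker (polarBilin Q y) := iSup_le fun i z hz => by
      show polar Q y z = 0
      rw [polar_comm]
      exact h1 i z hz hy
    rw [polar_comm]
    exact h2 hx
  have hQ : ∀ x ∈ ⨆ i, U i, Q x = 0 := by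
    intro x hx
    refine (Submodule.iSup_induction (motive := fun x => Q x = 0 ∧ x ∈ ⨆ i, U i) U hx
      (fun i z hz => ⟨hUQ i z hz, Submodule.mem_iSup_of_mem i hz⟩)
      ⟨QuadraticMap.map_zero Q, zero_mem _⟩ fun a b ha hb => ⟨?_, add_mem ha.2 hb.2⟩).1
    rw [form_add, ha.1, hb.1, hS a ha.2 b hb.2, add_zero, add_zero]
  refine ⟨⨆ i, U i, le_top, hQ, ?_⟩
  have hind : iSupIndep U := hdec.indep.mono hUD
  rw [Submodule.iSup_eq_range_dfinsupp_lsum,
    LinearMap.finrank_range_of_inj hind.dfinsupp_lsum_injective]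
  show 2 * Module.finrank F (DirectSum (Fin 5) fun i => U i) = _
  rw [Module.finrank_directSum]
  simp [hU1]

/-- Two isometric five-spaces. -/
theorem halves_maximal (hnd : PolarND Q) {D : Fin 2 → Submodule F (Fin 10 → F)}
    (hD : Geo.IsOrthogonalMDecomposition ⇑Q 5 D) :
    Geo.IsMaximalIn (Geo.omegaGL ⇑Q) (Geo.decompositionStabilizer D ⊓ Geo.omegaGL ⇑Q) :=
  OrthDec99.isMaximalIn_ten hnd (by simp) (by omega) hD (fun h => by omega) (fun h => by omega)
    fun _ => ⟨fun h => by omega, fun h => by omega⟩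

/-- Two five-spaces that are not isometric. -/
theorem unequal_halves_maximal (hnd : PolarND Q) {D : Fin 2 → Submodule F (Fin 10 → F)}
    (hD : Geo.IsNondegenerateMDecomposition (polar ⇑Q) 5 D)
    (hni : ¬ Geo.AreIsometricFor ⇑Q (D 0) (D 1)) :
    Geo.IsMaximalIn (Geo.omegaGL ⇑Q) (Geo.decompositionStabilizer D ⊓ Geo.omegaGL ⇑Q) := by
  have hp : OrthStab.IsOrthPair Q (D 0) (D 1) := by
    refine ⟨hnd, ⟨hD.decomp.indep.pairwiseDisjoint (by decide), codisjoint_iff.mpr ?_⟩,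
      hD.orthogonal 0 1 (by decide)⟩
    rw [eq_top_iff, ← hD.decomp.iSup_eq_top, iSup_le_iff]
    exact Fin.forall_fin_two.mpr ⟨le_sup_left, le_sup_right⟩
  have hk0 := hD.decomp.finrank_eq 0
  have hk1 := hD.decomp.finrank_eq 1
  have hns : ∀ g : orth Q, ¬ ∀ x ∈ D 0, g.1 x ∈ D 1 := fun g hg =>
    hni (OrthStab.areIsometricFor_of_map g hg (by rw [hk0, hk1])).1
  have key := Omega8Minus50.isMaximalIn_of_orthPair hp
    (Omega8Minus50.hasLine_of_five hp hk0.ge) (by simp)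
    (Omega8Minus50.mixCond_of_five hp hk0.ge)
    (fun e => by rw [e, finrank_bot] at hk1; omega) (fun _ h2 => by omega) hns
  suffices h : Geo.decompositionStabilizer D ⊓ Geo.omegaGL ⇑Q =
      Geo.subspaceStabilizer (D 0) ⊓ Geo.omegaGL ⇑Q by rw [h]; exact key
  ext g
  constructor
  · rintro ⟨⟨σ, hσ⟩, hg⟩
    obtain ⟨g₀, hg₀, rfl⟩ := hg
    refine ⟨MaxSub.mem_subspaceStabilizer fun x hx => ?_, ⟨g₀, hg₀, rfl⟩⟩
    have hmem : ∀ y ∈ D 0, (g₀.1 : Matrix (Fin 10) (Fin 10) F) *ᵥ y ∈ D (σ 0) := fun y hy => by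
      rw [← hσ 0]; exact ⟨y, hy, Matrix.toLin'_apply _ _⟩
    obtain h0 | h1 : σ 0 = 0 ∨ σ 0 = 1 := by omega
    · exact h0 ▸ hmem x hx
    · exact (hns (isometryGroupEquiv Q (f := ⇑Q) (fun _ => rfl) g₀)
        fun y hy => h1 ▸ hmem y hy).elim
  · rintro ⟨hs, hg⟩
    obtain ⟨g₀, hg₀, rfl⟩ := hg
    have hh : ∀ x ∈ D 0, (g₀.1 : Matrix (Fin 10) (Fin 10) F) *ᵥ x ∈ D 0 := fun x hx => (hs x).mp hx
    refine ⟨⟨1, fun i => ?_⟩, ⟨g₀, hg₀, rfl⟩⟩
    have hall : ∀ i, ∀ x ∈ D i, (g₀.1 : Matrix (Fin 10) (Fin 10) F) *ᵥ x ∈ D i :=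
      Fin.forall_fin_two.mpr
        ⟨hh, hp.map_mem₂ (isometryGroupEquiv Q (f := ⇑Q) (fun _ => rfl) g₀) hh⟩
    refine Submodule.eq_of_le_of_finrank_eq ?_ ?_
    · rintro _ ⟨x, hx, rfl⟩
      simpa [Matrix.toLin'_apply] using hall i x hx
    · exact LinearEquiv.finrank_map_eq (OrthStab.toOrth g₀).1 (D i)

/-- The field extension of degree two with self-adjoint elements. -/
theorem field_maximal (hnd : PolarND Q) (hodd : Odd (Fintype.card F))
    {K : Subalgebra F (Matrix (Fin 10) (Fin 10) F)} (hK : Geo.IsFieldSubalgebra 2 K)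
    (hsa : Geo.IsSelfAdjointFor (polar ⇑Q) K) :
    Geo.IsMaximalIn (Geo.omegaGL ⇑Q) (Geo.subalgebraNormalizer K ⊓ Geo.omegaGL ⇑Q) :=
  ExtFieldMax.Orth.isMaximalIn_orth hnd (two_ne_zero_of_card_odd hodd) hK Nat.prime_two hsa
    (by simp) fun _ => by simp

/-- The subfield groups. -/
theorem subfield_maximal (hnd : PolarND Q) {F₀ : Subfield F} {r : ℕ} (hr : r.Prime)
    (hcard : Fintype.card F = Nat.card F₀ ^ r) {P : Matrix.GeneralLinearGroup (Fin 10) F} {ζ : F}
    (hζ : ζ ≠ 0) (hP : Geo.IsQuadFormRationalStructure (fun v : Fin 10 → F => ζ * Q v) F₀ P) :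
    Geo.IsMaximalIn (Geo.omegaGL ⇑Q) (Geo.subfieldSubgroup F₀ P ⊓ Geo.omegaGL ⇑Q) := by
  classical
  have hcoe : (fun v : Fin 10 → F => ζ * Q v) = ⇑(ζ • Q) := rfl
  rw [← SubfieldQuad.omegaGL_smul (⇑Q) hζ, hcoe]
  rw [hcoe] at hP
  refine SubfieldQuad.isMaximal_subfield_ten (ζ • Q) (fun u hu => hnd u fun x => ?_)
    (by simp) hr (by rw [Nat.card_eq_fintype_card]; exact hcard) hP
  have := hu x
  simp [QuadraticMap.polar] at this
  have h' : ζ * QuadraticMap.polar Q u x = 0 := by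
    rw [QuadraticMap.polar]; linear_combination this
  exact (mul_eq_zero.mp h').resolve_left hζ

end Cfsg.Agent.Omega10
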